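import Cfsg.Agent.Solvable.Frattini
import Mathlib.GroupTheory.Rank
import Mathlib.GroupTheory.PGroup

/-!
# Automorphisms of `p`-groups with few generators

`mem_centralizer_of_rank_le`: an element normalising a `p`-group `H` generated by at most `d`
elements, of order prime to `p * ∏_{1 ≤ i ≤ d} (p ^ i - 1)`, centralises `H`.
-/

set_option autoImplicit false

namespace CfsgLib.SmallRankAut

open Subgroup
open scoped commutatorElement

/-- A permutation of order dividing the prime `q` has its fixed points congruent to the whole. -/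
theorem card_fixed_modEq {α : Type*} [Finite α] {q : ℕ} [Fact q.Prime] (σ : Equiv.Perm α)
    (hσ : σ ^ q = 1) : Nat.card α ≡ Nat.card {a // σ a = a} [MOD q] := by
  have hG : IsPGroup q (Subgroup.zpowers σ) := fun g => ⟨1, by
    obtain ⟨g, i, rfl⟩ := g
    apply Subtype.ext
    show (σ ^ i) ^ q ^ 1 = 1
    rw [pow_one, ← zpow_natCast, ← zpow_mul, mul_comm, zpow_mul, zpow_natCast, hσ, one_zpow]⟩
  refine (hG.card_modEq_card_fixedPoints α).trans ?_
  rw [Nat.card_congr (Equiv.subtypeEquivRight (p := fun a => a ∈ MulAction.fixedPoints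
    (Subgroup.zpowers σ) α) (q := fun a => σ a = a) fun a => ?_)]
  constructor
  · intro h
    exact h ⟨σ, mem_zpowers σ⟩
  · rintro h ⟨g, hg⟩
    have : zpowers σ ≤ MulAction.stabilizer (Equiv.Perm α) a :=
      zpowers_le.mpr (MulAction.mem_stabilizer_iff.mpr h)
    exact this hg

variable {P : Type*} [Group P] [Finite P] {p : ℕ} [Fact p.Prime]

/-- An automorphism of prime order `q` of a `p`-group on at most `d` generators is trivial when
`q` divides no `p ^ i - 1` with `1 ≤ i ≤ d`. -/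
theorem eq_one_of_prime_pow_eq_one (hP : IsPGroup p P) (φ : MulAut P) (S : Finset P)
    (hS : closure (S : Set P) = ⊤) {d : ℕ} (hd : S.card ≤ d) {q : ℕ} [Fact q.Prime]
    (hqp : q ≠ p) (hφ : φ ^ q = 1) (hnd : ∀ i, 1 ≤ i → i ≤ d → ¬ q ∣ p ^ i - 1) : φ = 1 := by
  classical
  have hp := (Fact.out : p.Prime)
  have hq := (Fact.out : q.Prime)
  let C : Subgroup P := φ.toMonoidHom.eqLocus (MonoidHom.id P)
  suffices hC : C = ⊤ by
    ext x
    exact (hC ▸ mem_top x : x ∈ C)
  set K := C ⊔ frattini P with hK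
  suffices hKt : K = ⊤ from CfsgLib.Solvable.eq_top_of_sup_frattini hKt
  by_contra hKne
  have hKn : K.Normal := ⟨fun x hx g => by
    have h1 : ⁅g, x⁆ ∈ K := (le_sup_right : frattini P ≤ K)
      (CfsgLib.Solvable.commutator_le_frattini hP
        (commutator_mem_commutator (mem_top g) (mem_top x)))
    have h2 := K.mul_mem h1 hx
    rwa [commutatorElement_def, inv_mul_cancel_right] at h2⟩
  have hKmap : K.map φ.toMonoidHom = K := by
    rw [hK, Subgroup.map_sup]
    congr 1
    · ext x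
      constructor
      · rintro ⟨y, hy, rfl⟩
        exact (hy : φ y = y).symm ▸ hy
      · intro hx
        exact ⟨x, hx, hx⟩
    · exact Subgroup.characteristic_iff_map_eq.mp inferInstance φ
  let e : P ⧸ K ≃* P ⧸ K := QuotientGroup.congr K K φ hKmap
  let σ : Equiv.Perm (P ⧸ K) := e.toEquiv
  have hσmk : ∀ (i : ℕ) (x : P), (σ ^ i) (QuotientGroup.mk x) = QuotientGroup.mk ((φ ^ i) x) := by
    intro i
    induction i with
    | zero => intro x; rfl
    | succ i ih =>
      intro x
      rw [pow_succ, Equiv.Perm.mul_apply, pow_succ, MulAut.mul_apply, ← ih]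
      rfl
  have hσ : σ ^ q = 1 := by
    ext c
    induction c using QuotientGroup.induction_on with
    | H x => rw [hσmk, hφ]; rfl
  -- the index of `K`
  obtain ⟨n, hn⟩ := hP.index (frattini P)
  have hnd' : n ≤ d := ((CfsgLib.Solvable.burnside_basis hP n hn).2 S hS).trans hd
  obtain ⟨j, hj, hjK⟩ := (Nat.dvd_prime_pow hp).mp
    (hn ▸ index_dvd_of_le (le_sup_right : frattini P ≤ K))
  have hj1 : 1 ≤ j := by
    by_contra hj0
    obtain rfl : j = 0 := by omega
    exact hKne (index_eq_one.mp (by rw [hjK, pow_zero]))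
  have hfix : Nat.card {c // σ c = c} ≠ 1 := by
    intro h1
    have hm := card_fixed_modEq σ hσ
    rw [h1, ← index_eq_card, hjK] at hm
    exact hnd j hj1 (hj.trans hnd') ((Nat.modEq_iff_dvd' (Nat.one_le_pow _ _ hp.pos)).mp hm.symm)
  have hone : σ 1 = 1 := map_one e
  obtain ⟨⟨c, hc⟩, hc1⟩ : ∃ c : {c // σ c = c}, c ≠ ⟨1, hone⟩ := by
    by_contra hall
    push Not at hall
    exact hfix (Nat.card_eq_one_iff_unique.mpr
      ⟨⟨fun a b => (hall a).trans (hall b).symm⟩, ⟨⟨1, hone⟩⟩⟩)
  obtain ⟨x, rfl⟩ := QuotientGroup.mk_surjective c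
  -- the coset of `x`
  let A := {y : P // (QuotientGroup.mk y : P ⧸ K) = QuotientGroup.mk x}
  have hinv : ∀ y : P, (QuotientGroup.mk y : P ⧸ K) = QuotientGroup.mk x ↔
      (QuotientGroup.mk (φ y) : P ⧸ K) = QuotientGroup.mk x := by
    intro y
    have e1 : σ (QuotientGroup.mk y) = (QuotientGroup.mk (φ y) : P ⧸ K) := rfl
    rw [← e1]
    conv_rhs => rw [← hc]
    exact σ.injective.eq_iff.symm
  let τ : Equiv.Perm A := φ.toEquiv.subtypeEquiv hinv
  have hτmk : ∀ (i : ℕ) (y : A), ((τ ^ i) y).1 = (φ ^ i) y.1 := by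
    intro i
    induction i with
    | zero => intro y; rfl
    | succ i ih =>
      intro y
      rw [pow_succ, Equiv.Perm.mul_apply, pow_succ, MulAut.mul_apply, ih]
      rfl
  have hτ : τ ^ q = 1 := by
    ext y
    rw [hτmk, hφ]
    rfl
  have hcardA : Nat.card A = Nat.card K := by
    refine Nat.card_congr
      { toFun := fun y => ⟨x⁻¹ * y.1, QuotientGroup.eq.mp y.2.symm⟩
        invFun := fun k => ⟨x * k.1, (QuotientGroup.eq.mpr (by simp)).symm⟩
        left_inv := fun y => Subtype.ext (by simp)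
        right_inv := fun k => Subtype.ext (by simp) }
  have hne0 : Nat.card {a // τ a = a} ≠ 0 := by
    intro h0
    have hm := card_fixed_modEq τ hτ
    rw [h0, hcardA] at hm
    obtain ⟨m, hm'⟩ := (hP.to_subgroup K).exists_card_eq
    rw [hm'] at hm
    exact hqp ((Nat.prime_dvd_prime_iff_eq hq hp).mp
      (hq.dvd_of_dvd_pow (Nat.modEq_zero_iff_dvd.mp hm)))
  obtain ⟨⟨y, hy⟩⟩ := (Nat.card_ne_zero.mp hne0).1
  have hyK : y.1 ∈ K := (le_sup_left : C ≤ K) (congrArg Subtype.val hy)
  exact hc1 (Subtype.ext (y.2.symm.trans ((QuotientGroup.eq_one_iff _).mpr hyK)))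

/-- An element normalising a `p`-group on at most `d` generators, of order prime to `p` and to
`p ^ i - 1` for `i ≤ d`, centralises it. -/
theorem mem_centralizer_of_rank_le {G : Type*} [Group G] [Finite G] {H : Subgroup G}
    (hH : IsPGroup p H) {d : ℕ} (hd : Group.rank H ≤ d) {x : G}
    (hx : x ∈ normalizer (H : Set G)) (hcop : (orderOf x).Coprime p)
    (hcop' : ∀ i, 1 ≤ i → i ≤ d → (orderOf x).Coprime (p ^ i - 1)) :
    x ∈ centralizer (H : Set G) := by
  set φ := H.normalizerMonoidHom ⟨x, hx⟩ with hφ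
  have hdvd : orderOf φ ∣ orderOf x := by
    have := orderOf_map_dvd H.normalizerMonoidHom ⟨x, hx⟩
    rwa [Subgroup.orderOf_mk] at this
  suffices h1 : orderOf φ = 1 by
    have h2 := orderOf_eq_one_iff.mp h1
    intro y hy
    have h3 : x * y * x⁻¹ = y := congrArg Subtype.val (DFunLike.congr_fun h2 (⟨y, hy⟩ : H))
    exact (mul_inv_eq_iff_eq_mul.mp h3).symm
  by_contra hne
  obtain ⟨q, hq, hqd⟩ := Nat.exists_prime_and_dvd hne
  haveI := Fact.mk hq
  haveI := Fintype.ofFinite H
  obtain ⟨S, hScard, hS⟩ := Group.rank_spec H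
  have hqx := hqd.trans hdvd
  have hψ := eq_one_of_prime_pow_eq_one hH (φ ^ (orderOf φ / q)) S hS (hScard ▸ hd)
    (fun e => by
      subst e
      exact hq.not_dvd_one (hcop ▸ Nat.dvd_gcd hqx dvd_rfl))
    (by rw [← pow_mul, Nat.div_mul_cancel hqd, pow_orderOf_eq_one])
    (fun i h1 h2 hd' => hq.not_dvd_one ((hcop' i h1 h2) ▸ Nat.dvd_gcd hqx hd'))
  have hlt : orderOf φ / q < orderOf φ := Nat.div_lt_self (orderOf_pos φ) hq.one_lt
  have hpos : 0 < orderOf φ / q := Nat.div_pos (Nat.le_of_dvd (orderOf_pos φ) hqd) hq.pos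
  exact absurd (Nat.le_of_dvd hpos (orderOf_dvd_of_pow_eq_one hψ)) (not_le.mpr hlt)

end CfsgLib.SmallRankAut
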