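import Cfsg.Agent.SmallRankAut.Basic
import Cfsg.Prelude.Def_Transfer
import Mathlib.GroupTheory.Transfer

/-!
# Burnside's complement criterion for abelian Sylow subgroups with few generators
-/

set_option autoImplicit false

namespace CfsgLib.SmallRankAut

open Subgroup

variable {G : Type*} [Group G] [Finite G] {p : ℕ} [Fact p.Prime]

/-- An abelian Sylow `p`-subgroup on at most `d` generators has a normal complement when no other
prime divisor of `|G|` divides some `p ^ i - 1`, `i ≤ d`. -/
theorem hasNormalPComplement_of_abelian (P : Sylow p G) (hab : IsMulCommutative (P : Subgroup G))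
    {d : ℕ} (hd : Group.rank (P : Subgroup G) ≤ d)
    (hq : ∀ q : ℕ, q.Prime → q ∣ Nat.card G → q ≠ p →
      ∀ i, 1 ≤ i → i ≤ d → ¬ q ∣ p ^ i - 1) : Cfsg.HasNormalPComplement p G := by
  have hp := (Fact.out : p.Prime)
  have hPC : (P : Subgroup G) ≤ centralizer (P : Set G) := by
    intro a ha b hb
    haveI := hab
    exact congrArg Subtype.val
      (mul_comm' (⟨b, hb⟩ : (P : Subgroup G)) (⟨a, ha⟩ : (P : Subgroup G)))
  have hN : normalizer (P : Set G) ≤ centralizer (P : Set G) := by
    intro x hx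
    obtain ⟨a, m, hm, hxam⟩ := Nat.exists_eq_pow_mul_and_not_dvd (orderOf_pos x).ne' p hp.ne_one
    have hy : x ^ p ^ a ∈ centralizer (P : Set G) := by
      have hord : orderOf (x ^ p ^ a) ∣ m := orderOf_dvd_of_pow_eq_one (by
        rw [← pow_mul, ← hxam, pow_orderOf_eq_one])
      have hcp : (orderOf (x ^ p ^ a)).Coprime p :=
        Nat.Coprime.coprime_dvd_left hord ((hp.coprime_iff_not_dvd.mpr hm).symm)
      refine mem_centralizer_of_rank_le P.2 hd (pow_mem hx _) hcp fun i h1 h2 => ?_
      refine Nat.coprime_of_dvd fun q hq' hqx hqi => ?_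
      refine hq q hq' (hqx.trans (orderOf_dvd_natCard _)) (fun e => ?_) i h1 h2 hqi
      subst e
      exact hp.not_dvd_one (hcp ▸ Nat.dvd_gcd hqx dvd_rfl)
    have hz : x ^ m ∈ centralizer (P : Set G) := by
      apply hPC
      have hpg : IsPGroup p (zpowers (x ^ m)) := by
        obtain ⟨b, hb, e⟩ := (Nat.dvd_prime_pow hp).mp
          (orderOf_dvd_of_pow_eq_one (n := p ^ a) (x := x ^ m) (by
            rw [← pow_mul, mul_comm, ← hxam, pow_orderOf_eq_one]))
        exact IsPGroup.of_card (n := b) (by rw [Nat.card_zpowers, e])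
      have : x ^ m ∈ zpowers (x ^ m) ⊓ normalizer (P : Set G) :=
        mem_inf.mpr ⟨mem_zpowers _, pow_mem hx _⟩
      rw [hpg.inf_normalizer_sylow] at this
      exact this.2
    obtain ⟨u, v, huv⟩ := Int.isCoprime_iff_gcd_eq_one.mpr
      (show Int.gcd ((p ^ a : ℕ) : ℤ) (m : ℤ) = 1 by
        rw [Int.gcd_natCast_natCast]
        exact Nat.Coprime.pow_left a (hp.coprime_iff_not_dvd.mpr hm))
    have e : x = (x ^ p ^ a) ^ u * (x ^ m) ^ v := by
      rw [← zpow_natCast x (p ^ a), ← zpow_natCast x m, ← zpow_mul, ← zpow_mul, ← zpow_add,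
        mul_comm ((p ^ a : ℕ) : ℤ) u, mul_comm (m : ℤ) v, huv, zpow_one]
    rw [e]
    exact mul_mem (zpow_mem hy u) (zpow_mem hz v)
  exact ⟨P, _, MonoidHom.normal_ker _, MonoidHom.ker_transferSylow_isComplement' P hN⟩

end CfsgLib.SmallRankAut
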